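import Groth.Agent.L24.Princ.Points
import Mathlib.RingTheory.Spectrum.Prime.Chevalley
import Mathlib.RingTheory.Flat.TorsionFree
import Mathlib.RingTheory.Localization.Away.Basic
import Mathlib.RingTheory.Polynomial.RationalRoot
import Mathlib.RingTheory.DedekindDomain.PID
import Mathlib.RingTheory.Ideal.GoingDown
import Mathlib.Algebra.Algebra.Rat
import Mathlib.Data.Nat.PrimeFin
import Mathlib.RingTheory.Polynomial.Basic
import Mathlib.FieldTheory.IsAlgClosed.Basic

/-!
# Functions with integral values are constant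
-/

set_option autoImplicit false
set_option linter.style.haveILetI false

universe u v

open Polynomial

namespace Groth.L06.FGDense

theorem not_isIntegral_inv_prime {k : Type u} [Field k] [CharZero k] {p : ℕ} (hp : p.Prime) :
    ¬ IsIntegral ℤ ((p : k)⁻¹) := by
  intro h
  have h1 : IsIntegral ℤ ((p : ℚ)⁻¹) := by
    refine (isIntegral_algebraMap_iff (algebraMap ℚ k).injective).1 ?_
    rwa [map_inv₀, map_natCast]
  obtain ⟨z, hz⟩ := IsIntegrallyClosed.isIntegral_iff.1 h1
  rw [eq_intCast] at hz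
  have hp0 : (p : ℚ) ≠ 0 := Nat.cast_ne_zero.2 hp.ne_zero
  have h2 : ((z * (p : ℤ) : ℤ) : ℚ) = ((1 : ℤ) : ℚ) := by
    push_cast
    rw [hz, inv_mul_cancel₀ hp0]
  have h3 : (p : ℤ) ∣ 1 := ⟨z, by rw [mul_comm]; exact (Int.cast_injective h2).symm⟩
  exact hp.one_lt.ne' (by exact_mod_cast Int.eq_one_of_dvd_one (Int.natCast_nonneg p) h3)

/-- On an irreducible variety a function with values integral over the integers is constant. -/
theorem exists_const {k : Type u} [Field k] [IsAlgClosed k] [CharZero k] {B : Type v} [CommRing B]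
    [IsDomain B] [Algebra k B] [Algebra.FiniteType k B] (c : B)
    (h : ∀ χ : B →ₐ[k] k, IsIntegral ℤ (χ c)) : ∃ a : k, algebraMap k B a = c := by
  by_cases halg : IsIntegral k c
  · obtain ⟨p, hp, hp0⟩ := halg
    rw [← aeval_def, (IsAlgClosed.splits p).eq_prod_roots_of_monic hp, map_multiset_prod,
      Multiset.prod_eq_zero_iff] at hp0
    rw [Multiset.map_map, Multiset.mem_map] at hp0
    obtain ⟨r, -, hr⟩ := hp0
    refine ⟨r, ?_⟩
    simp only [Function.comp_apply, map_sub, aeval_X, aeval_C, sub_eq_zero] at hr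
    exact hr.symm
  exfalso
  have hinj : Function.Injective (aeval (R := k) c) := by
    rw [injective_iff_map_eq_zero]
    intro q hq
    by_contra hq0
    exact halg (IsAlgebraic.isIntegral ⟨q, hq0, hq⟩)
  letI : Algebra k[X] B := (aeval (R := k) c).toRingHom.toAlgebra
  haveI : IsScalarTower k k[X] B := IsScalarTower.of_algebraMap_eq fun r => (aeval_C c r).symm
  haveI : Algebra.FiniteType k[X] B := Algebra.FiniteType.of_restrictScalars_finiteType k k[X] B
  haveI : Algebra.FinitePresentation k[X] B := Algebra.FinitePresentation.of_finiteType.1 inferInstance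
  haveI : Module.IsTorsionFree k[X] B := Module.IsTorsionFree.of_smul_eq_zero fun r m hrm => by
    rw [Algebra.smul_def, mul_eq_zero] at hrm
    exact hrm.imp (fun h => hinj (h.trans (map_zero _).symm)) id
  haveI : Module.Flat k[X] B := inferInstance
  have hopen : IsOpenMap (PrimeSpectrum.comap (algebraMap k[X] B)) :=
    PrimeSpectrum.isOpenMap_comap_of_hasGoingDown_of_finitePresentation
  have hne : (Set.range (PrimeSpectrum.comap (algebraMap k[X] B))).Nonempty := Set.range_nonempty _
  obtain ⟨x, hx⟩ := hne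
  obtain ⟨_, ⟨q, rfl⟩, hxq, hqU⟩ :=
    PrimeSpectrum.isTopologicalBasis_basic_opens.exists_subset_of_mem_open hx hopen.isOpen_range
  have hq0 : q ≠ 0 := fun h0 => (PrimeSpectrum.mem_basicOpen q x).1 hxq (h0 ▸ x.asIdeal.zero_mem)
  haveI : Infinite {p : ℕ // p.Prime} := Nat.infinite_setOf_prime.to_subtype
  obtain ⟨p, hp, hpq⟩ : ∃ p : ℕ, p.Prime ∧ ¬ q.IsRoot ((p : k)⁻¹) := by
    by_contra! hall
    refine Set.infinite_of_injective_forall_mem (α := {p : ℕ // p.Prime})
      (f := fun p => ((p.1 : k))⁻¹) ?_ (fun p => hall p.1 p.2) (q.finite_setOfPred_isRoot hq0)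
    intro a b hab
    exact Subtype.ext (Nat.cast_injective (R := k) (inv_injective hab))
  let a : k := (p : k)⁻¹
  let 𝔮 : PrimeSpectrum k[X] := ⟨RingHom.ker (evalRingHom a), RingHom.ker_isPrime _⟩
  have h𝔮 : 𝔮 ∈ PrimeSpectrum.basicOpen q := (PrimeSpectrum.mem_basicOpen q 𝔮).2 hpq
  obtain ⟨Q, hQ⟩ := hqU h𝔮
  obtain ⟨M, hM, hQM⟩ := Ideal.exists_le_maximal Q.asIdeal Q.2.ne_top
  obtain ⟨χ, hχ⟩ := Groth.L24.Princ.exists_point_max (k := k) M
  have hmem : algebraMap k[X] B (X - C a) ∈ Q.asIdeal := by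
    have : (X - C a) ∈ (PrimeSpectrum.comap (algebraMap k[X] B) Q).asIdeal := by
      rw [hQ]
      show evalRingHom a (X - C a) = 0
      simp
    exact this
  have h0 : χ (aeval c (X - C a)) = 0 := (hχ _).2 (hQM hmem)
  rw [map_sub, aeval_X, aeval_C, map_sub, AlgHom.commutes, sub_eq_zero] at h0
  have := h χ
  rw [h0] at this
  exact not_isIntegral_inv_prime hp this

end Groth.L06.FGDense
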