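import Groth.Agent.L24.Princ.Points
import Mathlib.RingTheory.Bialgebra.Convolution
import Mathlib.RingTheory.HopfAlgebra.Convolution
import Mathlib.RingTheory.TensorProduct.Maps

/-!
# Translations of a Hopf algebra by its points
-/

set_option autoImplicit false
set_option linter.style.haveILetI false
set_option linter.unusedSectionVars false

universe u v

open WithConv TensorProduct

noncomputable section

namespace Groth.L06.FGDense

variable {k : Type u} [Field k] {A : Type v} [CommRing A] [HopfAlgebra k A]

/-- The group of points of a Hopf algebra. -/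
abbrev Pts (k : Type u) [Field k] (A : Type v) [CommRing A] [HopfAlgebra k A] : Type max u v :=
  WithConv (A →ₐ[k] k)

/-- Right translation by a point: `(R g f) x = f (x * g)`. -/
def R (g : Pts k A) : A →ₐ[k] A :=
  (Algebra.TensorProduct.rid k k A).toAlgHom.comp
    ((Algebra.TensorProduct.map (AlgHom.id k A) g.ofConv).comp (Bialgebra.comulAlgHom k A))

/-- Left translation by a point: `(L g f) x = f (g * x)`. -/
def L (g : Pts k A) : A →ₐ[k] A :=
  (Algebra.TensorProduct.lid k A).toAlgHom.comp
    ((Algebra.TensorProduct.map g.ofConv (AlgHom.id k A)).comp (Bialgebra.comulAlgHom k A))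

theorem R_spec (x g : Pts k A) (f : A) : x.ofConv (R g f) = (x * g).ofConv f := by
  rw [AlgHom.convMul_apply]
  show x.ofConv (Algebra.TensorProduct.rid k k A
    (Algebra.TensorProduct.map (AlgHom.id k A) g.ofConv (Coalgebra.comul (R := k) f))) = _
  induction Coalgebra.comul (R := k) f using TensorProduct.induction_on with
  | zero => simp
  | tmul a b => simp [mul_comm]
  | add p q hp hq => simp only [map_add, hp, hq]

theorem L_spec (x g : Pts k A) (f : A) : x.ofConv (L g f) = (g * x).ofConv f := by
  rw [AlgHom.convMul_apply]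
  show x.ofConv (Algebra.TensorProduct.lid k A
    (Algebra.TensorProduct.map g.ofConv (AlgHom.id k A) (Coalgebra.comul (R := k) f))) = _
  induction Coalgebra.comul (R := k) f using TensorProduct.induction_on with
  | zero => simp
  | tmul a b => simp
  | add p q hp hq => simp only [map_add, hp, hq]

/-- The value of a point on the antipode. -/
theorem antipode_spec (x : Pts k A) (f : A) :
    x.ofConv (HopfAlgebra.antipodeAlgHom k A f) = (x⁻¹).ofConv f := rfl

/-- The orbit of an element under right translations is contained in a finite dimensional space. -/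
theorem exists_fin_orbit (a : A) :
    ∃ T : Submodule k A, Module.Finite k T ∧ ∀ g : Pts k A, R g a ∈ T := by
  classical
  obtain ⟨S, hS⟩ := TensorProduct.exists_finset (Coalgebra.comul (R := k) a)
  refine ⟨Submodule.span k (↑(S.image Prod.fst) : Set A), Module.Finite.span_of_finite k (Finset.finite_toSet _),
    fun g => ?_⟩
  show Algebra.TensorProduct.rid k k A
    (Algebra.TensorProduct.map (AlgHom.id k A) g.ofConv (Coalgebra.comul (R := k) a)) ∈ _
  rw [hS, map_sum, map_sum]
  refine sum_mem fun i hi => ?_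
  rw [Algebra.TensorProduct.map_tmul, Algebra.TensorProduct.rid_tmul]
  exact Submodule.smul_mem _ _ (Submodule.subset_span (Finset.mem_image_of_mem _ hi))

/-- The left translates of an element are contained in a finite dimensional space. -/
theorem exists_fin_orbit_left (a : A) :
    ∃ T : Submodule k A, Module.Finite k T ∧ ∀ g : Pts k A, L g a ∈ T := by
  classical
  obtain ⟨S, hS⟩ := TensorProduct.exists_finset (Coalgebra.comul (R := k) a)
  refine ⟨Submodule.span k (↑(S.image Prod.snd) : Set A), Module.Finite.span_of_finite k (Finset.finite_toSet _),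
    fun g => ?_⟩
  show Algebra.TensorProduct.lid k A
    (Algebra.TensorProduct.map g.ofConv (AlgHom.id k A) (Coalgebra.comul (R := k) a)) ∈ _
  rw [hS, map_sum, map_sum]
  refine sum_mem fun i hi => ?_
  rw [Algebra.TensorProduct.map_tmul, Algebra.TensorProduct.lid_tmul]
  exact Submodule.smul_mem _ _ (Submodule.subset_span (Finset.mem_image_of_mem _ hi))

/-- An ideal is the set of elements whose value at a set of points vanishes. -/
def I (Φ : Subgroup (Pts k A)) : Ideal A :=
  ⨅ x : Φ, RingHom.ker (x : Pts k A).ofConv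

theorem mem_I {Φ : Subgroup (Pts k A)} {a : A} : a ∈ I Φ ↔ ∀ x ∈ Φ, x.ofConv a = 0 := by
  simp [I, Submodule.mem_iInf, RingHom.mem_ker]

theorem I_le_ker {Φ : Subgroup (Pts k A)} {x : Pts k A} (hx : x ∈ Φ) : I Φ ≤ RingHom.ker x.ofConv :=
  fun _ ha => RingHom.mem_ker.2 (mem_I.1 ha x hx)

theorem I_antitone {Φ Ψ : Subgroup (Pts k A)} (h : Φ ≤ Ψ) : I Ψ ≤ I Φ :=
  fun _ ha => mem_I.2 fun x hx => mem_I.1 ha x (h hx)

theorem isRadical_I (Φ : Subgroup (Pts k A)) : (I Φ).IsRadical := fun a ha => by
  obtain ⟨n, hn⟩ := ha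
  refine mem_I.2 fun x hx => ?_
  have h := mem_I.1 hn x hx
  rw [map_pow] at h
  exact eq_zero_of_pow_eq_zero h

variable [IsAlgClosed k] [CharZero k]

theorem ext_pt {a b : A} (h : ∀ x : Pts k A, x.ofConv a = x.ofConv b) : a = b :=
  sub_eq_zero.1 (Groth.L24.Princ.eq_zero_of_forall_point k A fun g => by
    rw [map_sub, sub_eq_zero]; exact h (toConv g))

theorem R_one (f : A) : R (1 : Pts k A) f = f :=
  ext_pt fun x => by rw [R_spec, mul_one]

theorem R_mul (g h : Pts k A) (f : A) : R (g * h) f = R g (R h f) :=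
  ext_pt fun x => by rw [R_spec, R_spec, R_spec, mul_assoc]

theorem R_L (g h : Pts k A) (f : A) : R g (L h f) = L h (R g f) :=
  ext_pt fun x => by rw [R_spec, L_spec, L_spec, R_spec, mul_assoc]

theorem R_inv_cancel (g : Pts k A) (f : A) : R g⁻¹ (R g f) = f := by
  rw [← R_mul, inv_mul_cancel, R_one]

theorem R_cancel_inv (g : Pts k A) (f : A) : R g (R g⁻¹ f) = f := by
  rw [← R_mul, mul_inv_cancel, R_one]

/-- Right translation as an automorphism. -/
def RE (g : Pts k A) : A ≃ₐ[k] A :=
  AlgEquiv.ofAlgHom (R g) (R g⁻¹) (AlgHom.ext (R_cancel_inv g)) (AlgHom.ext (R_inv_cancel g))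

theorem RE_apply (g : Pts k A) (f : A) : RE g f = R g f := rfl

/-- Conjugation by a point. -/
def C (g : Pts k A) : A →ₐ[k] A := (R g).comp (L g⁻¹)

theorem C_spec (x g : Pts k A) (f : A) : x.ofConv (C g f) = (g⁻¹ * x * g).ofConv f := by
  show x.ofConv (R g (L g⁻¹ f)) = _
  rw [R_spec, L_spec, mul_assoc]

/-- Conjugation as an automorphism. -/
def CE (g : Pts k A) : A ≃ₐ[k] A :=
  AlgEquiv.ofAlgHom (C g) (C g⁻¹)
    (AlgHom.ext fun f => ext_pt fun x => by
      rw [AlgHom.comp_apply, C_spec, C_spec, AlgHom.id_apply, inv_inv, ← mul_assoc, ← mul_assoc,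
        mul_inv_cancel, one_mul, mul_assoc, mul_inv_cancel, mul_one])
    (AlgHom.ext fun f => ext_pt fun x => by
      rw [AlgHom.comp_apply, C_spec, C_spec, AlgHom.id_apply, inv_inv, ← mul_assoc, ← mul_assoc,
        inv_mul_cancel, one_mul, mul_assoc, inv_mul_cancel, mul_one])

theorem CE_apply (g : Pts k A) (f : A) : CE g f = C g f := rfl

end Groth.L06.FGDense
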