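import Mathlib.LinearAlgebra.Matrix.Adjugate
import Mathlib.LinearAlgebra.Matrix.NonsingularInverse
import Mathlib.LinearAlgebra.Dual.Lemmas
import Mathlib.LinearAlgebra.FiniteDimensional.Lemmas
import Mathlib.RingTheory.Nilpotent.Basic
import Mathlib.Algebra.Ring.GeomSum
import Mathlib.Algebra.CharZero.Defs

/-!
# Linear algebra for finitely generated dense subgroups
-/

set_option autoImplicit false
set_option linter.style.haveILetI false
set_option linter.unusedSectionVars false

universe u v w

open Matrix

namespace Groth.L06.FGDense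

section

variable {k : Type u} [Field k] {U : Type v} [AddCommGroup U] [Module k U] {ι : Type w}

/-- An endomorphism commuting with the centraliser of a diagonalisable family is scalar on each
simultaneous eigenspace. -/
theorem scalar_of_commute (T : ι → Module.End k U)
    (hspan : Submodule.span k {e : U | ∀ i, ∃ c : k, T i e = c • e} = ⊤) (χ0 : ι → k)
    (f : Module.End k U) (hf : ∀ φ : Module.End k U, (∀ i, Commute φ (T i)) → Commute f φ) :
    ∃ c : k, ∀ e : U, (∀ i, T i e = χ0 i • e) → f e = c • e := by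
  classical
  by_cases hall : ∀ e : U, (∀ i, T i e = χ0 i • e) → e = 0
  · exact ⟨0, fun e he => by rw [hall e he, map_zero, smul_zero]⟩
  push Not at hall
  obtain ⟨e₁, he₁, hne⟩ := hall
  let good : Module.End k U → Prop := fun F =>
    ∀ e : U, (∀ i, ∃ c : k, T i e = c • e) → ∃ a : k, F e = a • e
  have hcomm : ∀ F G, good F → good G → F * G = G * F := by
    intro F G hF hG
    refine LinearMap.ext_on hspan fun e he => ?_
    obtain ⟨a, ha⟩ := hF e he
    obtain ⟨b, hb⟩ := hG e he
    simp only [Module.End.mul_apply, ha, hb, map_smul, smul_smul, mul_comm]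
  have hmul : ∀ F G, good F → good G → good (F * G) := by
    intro F G hF hG e he
    obtain ⟨a, ha⟩ := hF e he
    obtain ⟨b, hb⟩ := hG e he
    exact ⟨b * a, by rw [Module.End.mul_apply, hb, map_smul, ha, smul_smul]⟩
  let others : Set U := {e | ∃ χ : ι → k, χ ≠ χ0 ∧ ∀ i, T i e = χ i • e}
  have hkill : ∀ x ∈ Submodule.span k others,
      ∃ F, good F ∧ F x = 0 ∧ ∃ a : k, a ≠ 0 ∧ F e₁ = a • e₁ := by
    intro x hx
    induction hx using Submodule.span_induction with
    | mem x hx =>
      obtain ⟨χ, hχ, hx⟩ := hx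
      obtain ⟨i, hi⟩ := Function.ne_iff.1 hχ
      refine ⟨T i - χ i • 1, ?_, ?_, χ0 i - χ i, sub_ne_zero.2 (Ne.symm hi), ?_⟩
      · intro e he
        obtain ⟨c, hc⟩ := he i
        exact ⟨c - χ i, by simp [hc, sub_smul]⟩
      · simp [hx i]
      · simp [he₁ i, sub_smul]
    | zero => exact ⟨1, fun e _ => ⟨1, by simp⟩, map_zero _, 1, one_ne_zero, by simp⟩
    | add x y _ _ hx hy =>
      obtain ⟨F, hF, hFx, a, ha, hFe⟩ := hx
      obtain ⟨G, hG, hGy, b, hb, hGe⟩ := hy
      refine ⟨F * G, hmul F G hF hG, ?_, b * a, mul_ne_zero hb ha, ?_⟩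
      · rw [map_add]
        conv_lhs => arg 1; rw [hcomm F G hF hG]
        rw [Module.End.mul_apply, Module.End.mul_apply, hFx, hGy, map_zero, map_zero, add_zero]
      · rw [Module.End.mul_apply, hGe, map_smul, hFe, smul_smul]
    | smul r x _ hx =>
      obtain ⟨F, hF, hFx, a, ha, hFe⟩ := hx
      exact ⟨F, hF, by rw [map_smul, hFx, smul_zero], a, ha, hFe⟩
  have he₁C : e₁ ∉ Submodule.span k others := by
    intro h
    obtain ⟨F, -, hFe, a, ha, hFe'⟩ := hkill e₁ h
    rw [hFe] at hFe'
    exact hne ((smul_eq_zero.1 hFe'.symm).resolve_left ha)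
  obtain ⟨φ, hφ₁, hφC⟩ := Submodule.exists_dual_map_eq_bot_of_notMem he₁C inferInstance
  let ψ : U →ₗ[k] k := (φ e₁)⁻¹ • φ
  have hψ₁ : ψ e₁ = 1 := by simp [ψ, inv_mul_cancel₀ hφ₁]
  have hψC : ∀ x ∈ others, φ x = 0 := by
    intro x hx
    have : φ x ∈ (Submodule.span k others).map φ := Submodule.mem_map_of_mem (Submodule.subset_span hx)
    rw [hφC, Submodule.mem_bot] at this
    exact this
  have hψT : ∀ i x, ψ (T i x) = χ0 i * ψ x := by
    intro i
    refine LinearMap.congr_fun (f := ψ ∘ₗ T i) (g := χ0 i • ψ) (LinearMap.ext_on hspan fun x hx => ?_)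
    choose χ hχ using hx
    rw [LinearMap.comp_apply, LinearMap.smul_apply, hχ i, map_smul]
    by_cases h : χ = χ0
    · simp [ψ, h, mul_left_comm]
    · simp [ψ, hψC x ⟨χ, h, hχ⟩]
  refine ⟨ψ (f e₁), fun e he => ?_⟩
  have hc : ∀ i, Commute (ψ.smulRight e) (T i) := by
    intro i
    refine LinearMap.ext fun x => ?_
    simp only [Module.End.mul_apply, LinearMap.smulRight_apply, map_smul, he i, hψT, smul_smul,
      mul_comm]
  have h := LinearMap.congr_fun (hf _ hc).eq e₁
  simp only [Module.End.mul_apply, LinearMap.smulRight_apply, hψ₁, one_smul] at h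
  exact h

end

section

variable {k : Type u} [Field k] {m : ℕ} {Z : Type w}

/-- A spanning family contains a nonsingular square submatrix. -/
theorem exists_det_ne_zero (v : Z → (Fin m → k)) (hv : Submodule.span k (Set.range v) = ⊤) :
    ∃ y : Fin m → Z, (Matrix.of fun i j => v (y j) i).det ≠ 0 := by
  classical
  obtain ⟨b, hb, hbs, hbli⟩ := exists_linearIndependent k (Set.range v)
  rw [hv] at hbs
  let B : Module.Basis b k (Fin m → k) :=
    Module.Basis.mk hbli (le_of_eq (by rw [Subtype.range_coe, hbs]))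
  haveI : Fintype b := FiniteDimensional.fintypeBasisIndex B
  have hcard : Fintype.card b = m := by
    rw [← Module.finrank_eq_card_basis B, Module.finrank_fin_fun]
  let e : Fin m ≃ b := (Fintype.equivFinOfCardEq hcard).symm
  choose y hy using fun j : Fin m => hb (e j).2
  refine ⟨y, ?_⟩
  have hli : LinearIndependent k (fun j => (Matrix.of fun i j => v (y j) i).col j) := by
    have : (fun j => (Matrix.of fun i j => v (y j) i).col j) = (fun x : b => (x : Fin m → k)) ∘ e := by
      funext j
      exact hy j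
    rw [this]
    exact hbli.comp _ e.injective
  exact ((Matrix.isUnit_iff_isUnit_det _).1
    (Matrix.linearIndependent_cols_iff_isUnit.1 hli)).ne_zero

/-- Two families whose maximal minors are proportional differ by a linear map. -/
theorem exists_matrix_of_det (v v' : Z → (Fin m → k)) (c : k) (hc : c ≠ 0)
    (h : ∀ y : Fin m → Z, (Matrix.of fun i j => v' (y j) i).det = c * (Matrix.of fun i j => v (y j) i).det)
    (y : Fin m → Z) (hy : (Matrix.of fun i j => v (y j) i).det ≠ 0) :
    ∃ T : Matrix (Fin m) (Fin m) k, ∀ z, v' z = T *ᵥ v z := by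
  classical
  let M : Matrix (Fin m) (Fin m) k := Matrix.of fun i j => v (y j) i
  let M' : Matrix (Fin m) (Fin m) k := Matrix.of fun i j => v' (y j) i
  refine ⟨M.det⁻¹ • (M' * M.adjugate), fun z => ?_⟩
  have hcr : M'.cramer (v' z) = c • M.cramer (v z) := by
    funext j
    rw [Pi.smul_apply, Matrix.cramer_apply, Matrix.cramer_apply, smul_eq_mul]
    have e1 : M'.updateCol j (v' z) = Matrix.of fun i l => v' (Function.update y j z l) i := by
      ext i l
      rcases eq_or_ne l j with rfl | hl
      · simp
      · simp [M', hl]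
    have e2 : M.updateCol j (v z) = Matrix.of fun i l => v (Function.update y j z l) i := by
      ext i l
      rcases eq_or_ne l j with rfl | hl
      · simp
      · simp [M, hl]
    rw [e1, e2, h]
  have h1 := Matrix.mulVec_cramer M' (v' z)
  rw [hcr, show M'.det = c * M.det from h y, Matrix.mulVec_smul, ← smul_smul,
    Matrix.cramer_eq_adjugate_mulVec, Matrix.mulVec_mulVec] at h1
  have h2 : (M' * M.adjugate) *ᵥ v z = M.det • v' z := smul_right_injective _ hc h1
  rw [Matrix.smul_mulVec, h2, smul_smul, inv_mul_cancel₀ hy, one_smul]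

end

/-- A unipotent element of finite order in characteristic zero is trivial. -/
theorem eq_one_of_unipotent {R : Type v} [Ring R] {u : R} {N : ℕ} (hN : IsUnit (N : R))
    (hu : IsNilpotent (u - 1)) (hN1 : u ^ N = 1) : u = 1 := by
  have key : ∀ i : ℕ, IsNilpotent (u ^ i - 1) ∧ Commute u (u ^ i - 1) := by
    intro i
    refine ⟨?_, ((Commute.self_pow u i).sub_right (Commute.one_right u))⟩
    rw [← geom_sum_mul]
    have hc : Commute (∑ j ∈ Finset.range i, u ^ j) (u - 1) :=
      (Commute.sum_left _ _ _ fun j _ => ((Commute.pow_self u j).sub_right (Commute.one_right _)))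
    exact hc.isNilpotent_mul_left hu
  have hs : IsNilpotent (∑ i ∈ Finset.range N, (u ^ i - 1)) :=
    Commute.isNilpotent_sum (fun i _ => (key i).1)
      (fun i j _ _ => ((Commute.pow_pow_self u i j).sub_left (Commute.one_left _)).sub_right
        (((Commute.one_right (u ^ i)).sub_left (Commute.one_left _))))
  have hunit : IsUnit (∑ i ∈ Finset.range N, u ^ i) := by
    have e : (∑ i ∈ Finset.range N, u ^ i) = (N : R) + ∑ i ∈ Finset.range N, (u ^ i - 1) := by
      simp [Finset.sum_sub_distrib]
    rw [e]
    exact hs.isUnit_add_left_of_commute hN (Nat.commute_cast _ N)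
  have h0 : (∑ i ∈ Finset.range N, u ^ i) * (u - 1) = 0 := by rw [geom_sum_mul, hN1, sub_self]
  exact sub_eq_zero.1 ((hunit.mul_right_eq_zero).1 h0)

end Groth.L06.FGDense
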