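import Groth.Agent.L06.FGDense.Irred
import Groth.Agent.L06.FGDense.Linear
import Mathlib.Algebra.Algebra.Operations
import Mathlib.RingTheory.Finiteness.Ideal

/-!
# A representation detecting the stabiliser of a component
-/

set_option autoImplicit false
set_option linter.style.haveILetI false
set_option linter.unusedSectionVars false

universe u v

open WithConv Matrix

noncomputable section

namespace Groth.L06.FGDense

variable {k : Type u} [Field k] [IsAlgClosed k] [CharZero k] {A : Type v} [CommRing A]
  [HopfAlgebra k A] [IsNoetherianRing A]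

/-- Every finite set lies in a finite dimensional space stable under right translations. -/
theorem exists_stable_finite (s : Finset A) :
    ∃ V : Submodule k A, Module.Finite k V ∧ (s : Set A) ⊆ V ∧
      ∀ g : Pts k A, ∀ a ∈ V, R g a ∈ V := by
  choose T hT hmem using fun a : s => exists_fin_orbit (k := k) (a : A)
  haveI : ∀ a, Module.Finite k (T a) := hT
  let V : Submodule k A := Submodule.span k {b | ∃ a : s, ∃ g : Pts k A, R g (a : A) = b}
  have hle : V ≤ ⨆ a, T a := Submodule.span_le.2 (by
    rintro b ⟨a, g, rfl⟩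
    exact Submodule.mem_iSup_of_mem a (hmem a g))
  refine ⟨V, Submodule.finiteDimensional_of_le hle, fun a ha => Submodule.subset_span
    ⟨⟨a, ha⟩, 1, R_one a⟩, fun g => ?_⟩
  have : V ≤ V.comap (R g).toLinearMap := Submodule.span_le.2 (by
    rintro b ⟨a, h, rfl⟩
    exact Submodule.subset_span ⟨a, g * h, R_mul g h a⟩)
  exact fun a ha => this ha

/-- The left translates of a finite dimensional space span a finite dimensional space. -/
theorem exists_left_finite (V : Submodule k A) [Module.Finite k V] :
    ∃ T : Submodule k A, Module.Finite k T ∧ ∀ g : Pts k A, ∀ a ∈ V, L g a ∈ T := by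
  obtain ⟨s, hs⟩ := (Module.Finite.iff_fg.1 (inferInstance : Module.Finite k V))
  choose T hT hmem using fun a : s => exists_fin_orbit_left (k := k) (a : A)
  haveI : ∀ a, Module.Finite k (T a) := hT
  refine ⟨⨆ a, T a, inferInstance, fun g => ?_⟩
  have : V ≤ (⨆ a, T a).comap (L g).toLinearMap := by
    rw [← hs, Submodule.span_le]
    exact fun a ha => Submodule.mem_iSup_of_mem ⟨a, ha⟩ (hmem ⟨a, ha⟩ g)
  exact fun a ha => this ha

/-- A determinant with entries in a subspace lies in a power of it. -/
theorem det_mem_pow {m : ℕ} (T : Submodule k A) (M : Matrix (Fin m) (Fin m) A)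
    (hM : ∀ i j, M i j ∈ T) : M.det ∈ T ^ m := by
  rw [Matrix.det_apply]
  refine Submodule.sum_mem _ fun σ _ => ?_
  have hprod : ∀ (n : ℕ) (f : Fin n → A), (∀ i, f i ∈ T) → ∏ i, f i ∈ T ^ n := by
    intro n
    induction n with
    | zero => intro f _; rw [Fin.prod_univ_zero, pow_zero]; exact Submodule.one_le.1 le_rfl
    | succ n ih =>
      intro f hf
      rw [Fin.prod_univ_succ, pow_succ']
      exact Submodule.mul_mem_mul (hf 0) (ih _ fun i => hf i.succ)
  rcases Int.units_eq_one_or (Equiv.Perm.sign σ) with h | h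
  · rw [h, one_smul]; exact hprod m _ fun i => hM _ i
  · rw [h, Units.neg_smul, one_smul]; exact Submodule.neg_mem _ (hprod m _ fun i => hM _ i)

/-- A representation spanned by eigenvectors of the stabiliser which detects it. -/
theorem exists_datum {P : Ideal A} (hP : Stable (k := k) P) :
    ∃ (U : Submodule k A) (_ : Module.Finite k U) (χ0 : stab (k := k) P → k),
      (∀ g : Pts k A, ∀ u ∈ U, R g u ∈ U) ∧
      U ≤ Submodule.span k {u | u ∈ U ∧ ∀ h : stab (k := k) P, ∃ c : k, R (h : Pts k A) u = c • u} ∧
      ∀ g : Pts k A, (∃ c : k, ∀ u ∈ U,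
          (∀ h : stab (k := k) P, R (h : Pts k A) u = χ0 h • u) → R g u = c • u) →
        P ≤ RingHom.ker g.ofConv := by
  classical
  obtain ⟨s, hs⟩ : P.FG := IsNoetherian.noetherian P
  obtain ⟨V, hV, hsV, hstab⟩ := exists_stable_finite (k := k) s
  haveI := hV
  obtain ⟨T, hT, hTV⟩ := exists_left_finite (k := k) V
  haveI := hT
  let W : Submodule k A := V ⊓ P.restrictScalars k
  haveI : Module.Finite k W := Submodule.finiteDimensional_of_le (S₁ := W) inf_le_left
  let m := Module.finrank k W
  let w : Module.Basis (Fin m) k W := Module.finBasis k W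
  let wA : Fin m → A := fun i => (w i : A)
  have hwV : ∀ i, wA i ∈ V := fun i => (w i).2.1
  have hWexp : ∀ x : W, (x : A) = ∑ i, w.repr x i • wA i := fun x => by
    conv_lhs => rw [← w.sum_repr x]
    rw [Submodule.coe_sum]
    exact Finset.sum_congr rfl fun i _ => rfl
  let v : Pts k A → (Fin m → k) := fun z i => z.ofConv (wA i)
  have hspan : Submodule.span k (Set.range v) = ⊤ := by
    by_contra hne
    obtain ⟨φ, hφ, hφv⟩ := Submodule.exists_dual_map_eq_bot_of_lt_top (lt_top_iff_ne_top.2 hne) inferInstance
    refine hφ (LinearMap.pi_ext' fun i => LinearMap.ext_ring ?_)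
    let c : Fin m → k := fun i => φ (Pi.single i 1)
    have hφ' : ∀ x : Fin m → k, φ x = ∑ i, x i * c i := fun x => by
      conv_lhs => rw [pi_eq_sum_univ' x]
      simp [c, map_sum]
    have h0 : (∑ i, c i • w i : W) = 0 := by
      refine Subtype.ext (ext_pt (k := k) fun z => ?_)
      have : φ (v z) ∈ (Submodule.span k (Set.range v)).map φ :=
        Submodule.mem_map_of_mem (Submodule.subset_span ⟨z, rfl⟩)
      rw [hφv, Submodule.mem_bot, hφ'] at this
      simp only [Submodule.coe_sum, Submodule.coe_smul, map_sum, map_smul, ZeroMemClass.coe_zero,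
        map_zero, smul_eq_mul]
      exact (Finset.sum_congr rfl fun i _ => mul_comm _ _).trans this
    have := Fintype.linearIndependent_iff.1 w.linearIndependent c h0 i
    simpa [c] using this
  obtain ⟨y₀, hy₀⟩ := exists_det_ne_zero v hspan
  let Δ : (Fin m → Pts k A) → A := fun y => (Matrix.of fun i j => L (y j) (wA i)).det
  have hRΔ : ∀ (g : Pts k A) y, R g (Δ y) = (Matrix.of fun i j => L (y j) (R g (wA i))).det := by
    intro g y
    rw [AlgHom.map_det]
    congr 1
    ext i j
    exact R_L g (y j) (wA i)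
  have hval : ∀ (g : Pts k A) y, (1 : Pts k A).ofConv (R g (Δ y)) =
      (Matrix.of fun i j => v (y j * g) i).det := by
    intro g y
    rw [hRΔ, AlgHom.map_det]
    congr 1
    ext i j
    show (1 : Pts k A).ofConv (L (y j) (R g (wA i))) = _
    rw [L_spec, R_spec, mul_one]
    rfl
  have hstabW : ∀ h : stab (k := k) P, ∀ i, R (h : Pts k A) (wA i) ∈ W := fun h i =>
    ⟨hstab _ _ (hwV i), by
      have := (mem_stab.1 h.2).ge (w i).2.2
      exact this⟩
  let Mh : stab (k := k) P → Matrix (Fin m) (Fin m) k := fun h =>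
    Matrix.of fun i l => w.repr ⟨R (h : Pts k A) (wA i), hstabW h i⟩ l
  have heig : ∀ (h : stab (k := k) P) y, R (h : Pts k A) (Δ y) = (Mh h).det • Δ y := by
    intro h y
    rw [hRΔ, Algebra.smul_def, RingHom.map_det, ← Matrix.det_mul]
    congr 1
    ext i j
    rw [Matrix.mul_apply, Matrix.of_apply]
    have := hWexp ⟨R (h : Pts k A) (wA i), hstabW h i⟩
    rw [show R (h : Pts k A) (wA i) = _ from this, map_sum]
    refine Finset.sum_congr rfl fun l _ => ?_
    rw [map_smul, Algebra.smul_def]
    rfl
  let U : Submodule k A := Submodule.span k {b | ∃ (g : Pts k A) (y : Fin m → Pts k A), R g (Δ y) = b}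
  have hU : U ≤ T ^ m := Submodule.span_le.2 (by
    rintro b ⟨g, y, rfl⟩
    rw [hRΔ]
    exact det_mem_pow T _ fun i j => hTV _ _ (hstab g _ (hwV i)))
  haveI : Module.Finite k ↥(T ^ m) :=
    Module.Finite.iff_fg.2 ((Module.Finite.iff_fg.1 hT).pow m)
  haveI hUfin : Module.Finite k U := Submodule.finiteDimensional_of_le hU
  refine ⟨U, hUfin, fun h => (Mh h).det, fun g => ?_, ?_, ?_⟩
  · have : U ≤ U.comap (R g).toLinearMap := Submodule.span_le.2 (by
      rintro b ⟨h, y, rfl⟩
      exact Submodule.subset_span ⟨g * h, y, R_mul g h _⟩)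
    exact fun u hu => this hu
  · refine Submodule.span_le.2 ?_
    rintro b ⟨g, y, rfl⟩
    refine Submodule.subset_span ⟨Submodule.subset_span ⟨g, y, rfl⟩, fun h => ?_⟩
    refine ⟨(Mh ⟨g⁻¹ * h * g, hP.conj_mem g h h.2⟩).det, ?_⟩
    rw [← map_smul, ← heig, ← R_mul, ← R_mul]
    show R ((h : Pts k A) * g) (Δ y) = R (g * (g⁻¹ * (h : Pts k A) * g)) (Δ y)
    rw [← mul_assoc, ← mul_assoc, mul_inv_cancel, one_mul]
  · rintro g ⟨c, hc⟩
    have hΔU : ∀ y, Δ y ∈ U := fun y => Submodule.subset_span ⟨1, y, R_one _⟩
    have hg : ∀ y, R g (Δ y) = c • Δ y := fun y => hc _ (hΔU y) fun h => heig h y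
    have hdet : ∀ y : Fin m → Pts k A, (Matrix.of fun i j => v (y j * g) i).det =
        c * (Matrix.of fun i j => v (y j) i).det := by
      intro y
      rw [← hval g y, hg, map_smul, smul_eq_mul]
      congr 1
      have := hval 1 y
      rw [R_one] at this
      rw [this]
      simp only [mul_one]
    have hc0 : c ≠ 0 := by
      intro h0
      have h1 := hg y₀
      rw [h0, zero_smul] at h1
      have h2 : Δ y₀ = 0 := by rw [← R_inv_cancel g (Δ y₀), h1, map_zero]
      have := hval 1 y₀
      rw [R_one, h2, map_zero] at this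
      simp only [mul_one] at this
      exact hy₀ this.symm
    obtain ⟨M, hM⟩ := exists_matrix_of_det v (fun z => v (z * g)) c hc0 hdet y₀ hy₀
    have hW : W ≤ W.comap (R g).toLinearMap := by
      intro x hx
      have key : ∀ i, R g (wA i) ∈ W := by
        intro i
        have e : R g (wA i) = ∑ l, M i l • wA l := ext_pt (k := k) fun z => by
          rw [R_spec, map_sum]
          simp only [map_smul, smul_eq_mul]
          exact congrFun (hM z) i
        rw [e]
        exact Submodule.sum_mem _ fun l _ => Submodule.smul_mem _ _ (w l).2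
      show R g x ∈ W
      rw [show x = _ from hWexp ⟨x, hx⟩, map_sum]
      refine Submodule.sum_mem _ fun i _ => ?_
      rw [map_smul]
      exact Submodule.smul_mem _ _ (key i)
    have hPg : P ≤ P.comap (R g) := by
      refine le_of_eq_of_le hs.symm (Ideal.span_le.2 fun a ha => ?_)
      have haP : a ∈ P := hs ▸ Ideal.subset_span ha
      exact (hW (x := a) ⟨hsV ha, haP⟩).2
    refine hPg.trans ((Ideal.comap_mono hP.le_one).trans ?_)
    rw [comap_R_ker, one_mul]

end Groth.L06.FGDense
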