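import Groth.Agent.L06.FGDense.Core
import Mathlib.RingTheory.Ideal.MinimalPrime.Noetherian
import Mathlib.RingTheory.Ideal.KrullsHeightTheorem
import Mathlib.GroupTheory.Finiteness

/-!
# The neutral component of the closure of a group of points
-/

set_option autoImplicit false
set_option linter.style.haveILetI false
set_option linter.unusedSectionVars false

universe u v

open WithConv

noncomputable section

namespace Groth.L06.FGDense

variable {k : Type u} [Field k] [IsAlgClosed k] [CharZero k] {A : Type v} [CommRing A]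
  [HopfAlgebra k A] [IsNoetherianRing A]

theorem R_surjective (g : Pts k A) : Function.Surjective (R g) :=
  fun a => ⟨R g⁻¹ a, R_cancel_inv g a⟩

theorem C_surjective (g : Pts k A) : Function.Surjective (C g) :=
  fun a => ⟨(CE g).symm a, (CE g).apply_symm_apply a⟩

theorem comap_R_ker (g y : Pts k A) :
    (RingHom.ker y.ofConv).comap (R g) = RingHom.ker (y * g).ofConv :=
  Ideal.ext fun a => by rw [Ideal.mem_comap, RingHom.mem_ker, RingHom.mem_ker, R_spec]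

theorem comap_C_ker (g y : Pts k A) :
    (RingHom.ker y.ofConv).comap (C g) = RingHom.ker (g⁻¹ * y * g).ofConv :=
  Ideal.ext fun a => by rw [Ideal.mem_comap, RingHom.mem_ker, RingHom.mem_ker, C_spec]

theorem comap_R_mul (g h : Pts k A) (P : Ideal A) :
    P.comap (R (g * h)) = (P.comap (R g)).comap (R h) :=
  Ideal.ext fun a => by rw [Ideal.mem_comap, Ideal.mem_comap, Ideal.mem_comap, R_mul]

theorem comap_R_I {Φ : Subgroup (Pts k A)} {g : Pts k A} (hg : g ∈ Φ) :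
    (I Φ).comap (R g) = I Φ := by
  refine Ideal.ext fun a => ?_
  rw [Ideal.mem_comap, mem_I, mem_I]
  refine ⟨fun h x hx => ?_, fun h x hx => by rw [R_spec]; exact h _ (mul_mem hx hg)⟩
  have := h (x * g⁻¹) (mul_mem hx (inv_mem hg))
  rwa [R_spec, inv_mul_cancel_right] at this

theorem comap_C_I {Φ : Subgroup (Pts k A)} {g : Pts k A} (hg : g ∈ Φ) :
    (I Φ).comap (C g) = I Φ := by
  refine Ideal.ext fun a => ?_
  rw [Ideal.mem_comap, mem_I, mem_I]
  refine ⟨fun h x hx => ?_, fun h x hx => by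
    rw [C_spec]; exact h _ (mul_mem (mul_mem (inv_mem hg) hx) hg)⟩
  have := h (g * x * g⁻¹) (mul_mem (mul_mem hg hx) (inv_mem hg))
  rwa [C_spec, ← mul_assoc, ← mul_assoc, inv_mul_cancel, one_mul, inv_mul_cancel_right] at this

theorem minimal_comap {J Q : Ideal A} (f : A →ₐ[k] A) (hf : Function.Surjective f)
    (hJ : J.comap f = J) (hQ : Q ∈ J.minimalPrimes) : Q.comap f ∈ J.minimalPrimes := by
  have h : (J.comap f.toRingHom).minimalPrimes = Ideal.comap f.toRingHom '' J.minimalPrimes :=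
    Ideal.comap_minimalPrimes_eq_of_surjective hf J
  have hJ' : J.comap f.toRingHom = J := hJ
  rw [hJ'] at h
  rw [h]
  exact ⟨Q, hQ, rfl⟩

/-- Each component contains a point lying on no other component. -/
theorem exists_point_only {Φ : Subgroup (Pts k A)} {P : Ideal A} (hP : P ∈ (I Φ).minimalPrimes) :
    ∃ x ∈ Φ, P ≤ RingHom.ker x.ofConv ∧
      ∀ Q ∈ (I Φ).minimalPrimes, Q ≤ RingHom.ker x.ofConv → Q = P := by
  classical
  have hfin : (I Φ).minimalPrimes.Finite := (I Φ).finite_minimalPrimes_of_isNoetherianRing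
  haveI hPp := hP.isPrime
  have hne : ∀ Q ∈ hfin.toFinset.erase P, ∃ f ∈ Q, f ∉ P := by
    intro Q hQ
    rw [Finset.mem_erase, Set.Finite.mem_toFinset] at hQ
    by_contra! h
    exact hQ.1 (le_antisymm h (hP.2 hQ.2.1 h))
  choose! f hfQ hfP using hne
  let F : A := ∏ Q ∈ hfin.toFinset.erase P, f Q
  have hF : F ∉ P := fun h => by
    obtain ⟨Q, hQ, hQP⟩ := (Ideal.IsPrime.prod_mem_iff).1 h
    exact hfP Q hQ hQP
  obtain ⟨x, hx, hxF⟩ : ∃ x ∈ Φ, x.ofConv F ≠ 0 := by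
    by_contra! h
    exact hF (hP.1.2 (mem_I.2 h))
  have huniq : ∀ Q ∈ (I Φ).minimalPrimes, Q ≤ RingHom.ker x.ofConv → Q = P := by
    intro Q hQ hQx
    by_contra hQP
    have hQm : Q ∈ hfin.toFinset.erase P := by
      rw [Finset.mem_erase, Set.Finite.mem_toFinset]; exact ⟨hQP, hQ⟩
    exact hxF (RingHom.mem_ker.1 (hQx (Ideal.prod_mem _ hQm (hfQ Q hQm))))
  haveI : (RingHom.ker x.ofConv).IsPrime := RingHom.ker_isPrime _
  obtain ⟨Q, hQ, hQx⟩ := Ideal.exists_minimalPrimes_le (I_le_ker hx)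
  exact ⟨x, hx, huniq Q hQ hQx ▸ hQx, huniq⟩

/-- Only one component passes through each point. -/
theorem eq_of_le_ker {Φ : Subgroup (Pts k A)} {y : Pts k A} (hy : y ∈ Φ) {P Q : Ideal A}
    (hP : P ∈ (I Φ).minimalPrimes) (hQ : Q ∈ (I Φ).minimalPrimes)
    (hPy : P ≤ RingHom.ker y.ofConv) (hQy : Q ≤ RingHom.ker y.ofConv) : P = Q := by
  obtain ⟨x, hx, -, huniq⟩ := exists_point_only hP
  have hg : y⁻¹ * x ∈ Φ := mul_mem (inv_mem hy) hx
  have key : ∀ T ∈ (I Φ).minimalPrimes, T ≤ RingHom.ker y.ofConv → T.comap (R (y⁻¹ * x)) = P := by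
    intro T hT hTy
    refine huniq _ (minimal_comap _ (R_surjective _) (comap_R_I hg) hT) ?_
    refine (Ideal.comap_mono hTy).trans ?_
    rw [comap_R_ker, mul_inv_cancel_left]
  exact Ideal.comap_injective_of_surjective _ (R_surjective (y⁻¹ * x))
    ((key P hP hPy).trans (key Q hQ hQy).symm)

theorem exists_P0 (Φ : Subgroup (Pts k A)) :
    ∃ P ∈ (I Φ).minimalPrimes, P ≤ RingHom.ker (1 : Pts k A).ofConv := by
  haveI : (RingHom.ker (1 : Pts k A).ofConv).IsPrime := RingHom.ker_isPrime _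
  exact Ideal.exists_minimalPrimes_le (I_le_ker (one_mem Φ))

/-- The neutral component of the closure of a group of points. -/
def P0 (Φ : Subgroup (Pts k A)) : Ideal A := (exists_P0 Φ).choose

theorem P0_mem (Φ : Subgroup (Pts k A)) : P0 Φ ∈ (I Φ).minimalPrimes := (exists_P0 Φ).choose_spec.1

theorem P0_le_one (Φ : Subgroup (Pts k A)) : P0 Φ ≤ RingHom.ker (1 : Pts k A).ofConv :=
  (exists_P0 Φ).choose_spec.2

instance isPrime_P0 (Φ : Subgroup (Pts k A)) : (P0 Φ).IsPrime := (P0_mem Φ).isPrime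

theorem P0_le {Φ : Subgroup (Pts k A)} {Q : Ideal A} [Q.IsPrime] (hI : I Φ ≤ Q)
    (h1 : Q ≤ RingHom.ker (1 : Pts k A).ofConv) : P0 Φ ≤ Q := by
  obtain ⟨Q', hQ', hle⟩ := Ideal.exists_minimalPrimes_le hI
  rwa [eq_of_le_ker (one_mem Φ) (P0_mem Φ) hQ' (P0_le_one Φ) (hle.trans h1)]

theorem P0_antitone {Φ Ψ : Subgroup (Pts k A)} (h : Φ ≤ Ψ) : P0 Ψ ≤ P0 Φ :=
  P0_le ((I_antitone h).trans (P0_mem Φ).1.2) (P0_le_one Φ)

/-- A finitely generated group of points with the smallest neutral component. -/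
theorem exists_fg_stable :
    ∃ Φ : Subgroup (Pts k A), Φ.FG ∧ ∀ Ψ : Subgroup (Pts k A), Φ ≤ Ψ → Ψ.FG → P0 Ψ = P0 Φ := by
  obtain ⟨h, ⟨Φ, hΦ, rfl⟩, hmin⟩ := wellFounded_lt.has_min
    {h : ℕ∞ | ∃ Φ : Subgroup (Pts k A), Φ.FG ∧ (P0 Φ).height = h}
    ⟨_, ⊥, Subgroup.fg_iff _ |>.2 ⟨∅, Subgroup.closure_empty, Set.finite_empty⟩, rfl⟩
  refine ⟨Φ, hΦ, fun Ψ hle hΨ => ?_⟩
  by_contra hne
  exact hmin _ ⟨Ψ, hΨ, rfl⟩
    (Ideal.height_strict_mono_of_isPrime ((P0_antitone hle).lt_of_ne hne))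

/-- The stabiliser of an ideal. -/
def stab (P : Ideal A) : Subgroup (Pts k A) where
  carrier := {g | P.comap (R g) = P}
  mul_mem' {g h} hg hh := by
    show P.comap (R (g * h)) = P
    rw [comap_R_mul, (hg : P.comap (R g) = P), (hh : P.comap (R h) = P)]
  one_mem' := Ideal.ext fun a => by rw [Ideal.mem_comap, R_one]
  inv_mem' {g} hg := by
    show P.comap (R g⁻¹) = P
    conv_lhs => rw [← (hg : P.comap (R g) = P)]
    exact Ideal.ext fun a => by rw [Ideal.mem_comap, Ideal.mem_comap, R_cancel_inv]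

theorem mem_stab {P : Ideal A} {g : Pts k A} : g ∈ stab P ↔ P.comap (R g) = P := Iff.rfl

theorem le_ker_of_mem_stab {P : Ideal A} (hP : P ≤ RingHom.ker (1 : Pts k A).ofConv) {g : Pts k A}
    (hg : g ∈ stab P) : P ≤ RingHom.ker g.ofConv := by
  rw [← (mem_stab.1 hg)]
  refine (Ideal.comap_mono hP).trans ?_
  rw [comap_R_ker, one_mul]

/-- The data of a stable neutral component. -/
structure Stable (P : Ideal A) : Prop where
  le_one : P ≤ RingHom.ker (1 : Pts k A).ofConv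
  mem_stab_of_le : ∀ g : Pts k A, P ≤ RingHom.ker g.ofConv → g ∈ stab P
  conj_mem : ∀ g h : Pts k A, h ∈ stab P → g⁻¹ * h * g ∈ stab P
  pow_mem : ∀ g : Pts k A, ∃ N : ℕ, 0 < N ∧ g ^ N ∈ stab P

theorem stable_P0 {Φ : Subgroup (Pts k A)} (hΦ : Φ.FG)
    (hmax : ∀ Ψ : Subgroup (Pts k A), Φ ≤ Ψ → Ψ.FG → P0 Ψ = P0 Φ) :
    Stable (k := k) (P0 Φ) := by
  have hΨ : ∀ g : Pts k A, ∃ Ψ : Subgroup (Pts k A), g ∈ Ψ ∧ P0 Ψ = P0 Φ := by
    intro g
    refine ⟨Φ ⊔ Subgroup.closure {g}, le_sup_right (a := Φ) (Subgroup.subset_closure rfl),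
      hmax _ le_sup_left (hΦ.sup ((Subgroup.fg_iff _).2 ⟨{g}, rfl, Set.finite_singleton g⟩))⟩
  have hpt : ∀ g : Pts k A, P0 Φ ≤ RingHom.ker g.ofConv → g ∈ stab (P0 Φ) := by
    intro g hg
    obtain ⟨Ψ, hgΨ, hP⟩ := hΨ g
    rw [mem_stab, ← hP]
    refine eq_of_le_ker hgΨ (minimal_comap _ (R_surjective g) (comap_R_I hgΨ) (P0_mem Ψ)) (P0_mem Ψ)
      ?_ (hP ▸ hg)
    refine (Ideal.comap_mono (P0_le_one Ψ)).trans ?_
    rw [comap_R_ker, one_mul]
  refine ⟨P0_le_one Φ, hpt, fun g h hh => hpt _ ?_, fun g => ?_⟩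
  · obtain ⟨Ψ, hgΨ, hP⟩ := hΨ g
    have hC : (P0 Ψ).comap (C g) = P0 Ψ := by
      refine eq_of_le_ker (one_mem Ψ) (minimal_comap _ (C_surjective g) (comap_C_I hgΨ) (P0_mem Ψ))
        (P0_mem Ψ) ?_ (P0_le_one Ψ)
      refine (Ideal.comap_mono (P0_le_one Ψ)).trans ?_
      rw [comap_C_ker, mul_one, inv_mul_cancel]
    rw [← hP, ← hC]
    refine (Ideal.comap_mono (?_ : P0 Ψ ≤ RingHom.ker h.ofConv)).trans (comap_C_ker g h).le
    rw [hP]
    exact le_ker_of_mem_stab (P0_le_one Φ) hh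
  · obtain ⟨Ψ, hgΨ, hP⟩ := hΨ g
    have hmem : ∀ n : ℕ, (P0 Φ).comap (R (g ^ n)) ∈ (I Ψ).minimalPrimes := fun n =>
      hP ▸ minimal_comap _ (R_surjective _) (comap_R_I (pow_mem hgΨ n)) (P0_mem Ψ)
    haveI : Finite (I Ψ).minimalPrimes := (I Ψ).finite_minimalPrimes_of_isNoetherianRing.to_subtype
    obtain ⟨i, j, hij, he⟩ := Finite.exists_ne_map_eq_of_infinite
      fun n : ℕ => (⟨_, hmem n⟩ : (I Ψ).minimalPrimes)
    have he' : (P0 Φ).comap (R (g ^ i)) = (P0 Φ).comap (R (g ^ j)) := congrArg Subtype.val he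
    have key : ∀ a b : ℕ, a < b → (P0 Φ).comap (R (g ^ a)) = (P0 Φ).comap (R (g ^ b)) →
        g ^ (b - a) ∈ stab (P0 Φ) := by
      intro a b hab h
      refine mem_stab.2 (Ideal.comap_injective_of_surjective _ (R_surjective (g ^ a)) ?_)
      rw [h, ← comap_R_mul, ← pow_add, Nat.sub_add_cancel hab.le]
    rcases Nat.lt_or_gt_of_ne hij with h | h
    · exact ⟨j - i, Nat.sub_pos_of_lt h, key i j h he'⟩
    · exact ⟨i - j, Nat.sub_pos_of_lt h, key j i h he'.symm⟩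

end Groth.L06.FGDense
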