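import Groth.Agent.L06.FGDense.Rep
import Groth.Agent.L25.Bridge.Lift
import Mathlib.RingTheory.Jacobson.Ring

/-!
# Finitely generated dense subgroups
-/

set_option autoImplicit false
set_option linter.style.haveILetI false
set_option linter.unusedSectionVars false

universe u v

open WithConv

noncomputable section

namespace Groth.L06.FGDense

variable {k : Type u} [Field k] [IsAlgClosed k] [CharZero k] {A : Type v} [CommRing A]
  [HopfAlgebra k A] [Algebra.FiniteType k A]

theorem mem_of_forall_point {P : Ideal A} [P.IsPrime] {a : A}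
    (h : ∀ x : Pts k A, P ≤ RingHom.ker x.ofConv → x.ofConv a = 0) : a ∈ P := by
  haveI : IsJacobsonRing A := isJacobsonRing_of_finiteType (A := k) (B := A)
  have hP : P.jacobson = P :=
    IsJacobsonRing.out inferInstance (Ideal.IsPrime.isRadical ‹P.IsPrime›)
  rw [← hP, Ideal.jacobson, Submodule.mem_sInf]
  rintro M ⟨hPM, hM⟩
  haveI := hM
  obtain ⟨χ, hχ⟩ := Groth.L24.Princ.exists_point_max (k := k) M
  exact (hχ a).1 (h (toConv χ) fun b hb => RingHom.mem_ker.2 ((hχ b).2 (hPM hb)))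

theorem exists_fg_dense :
    ∃ Φ : Subgroup (Pts k A), Φ.FG ∧ ∀ a : A, (∀ x ∈ Φ, x.ofConv a = 0) → a = 0 := by
  classical
  haveI : IsNoetherianRing A := Algebra.FiniteType.isNoetherianRing k A
  obtain ⟨Φ, hΦ, hmax⟩ := exists_fg_stable (k := k) (A := A)
  have hst := stable_P0 hΦ hmax
  have hbot : I (⊤ : Subgroup (Pts k A)) = ⊥ := by
    refine le_antisymm (fun a ha => ?_) bot_le
    exact Groth.L24.Princ.eq_zero_of_forall_point k A fun g => mem_I.1 ha (toConv g) trivial
  have hP : P0 Φ = P0 (⊤ : Subgroup (Pts k A)) := by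
    refine le_antisymm (fun a ha => ?_) (P0_antitone le_top)
    exact mem_of_forall_point fun x hx =>
      RingHom.mem_ker.1 (le_ker_of_stable hst (P0_le_one ⊤) hx ha)
  have hfin : (I (⊤ : Subgroup (Pts k A))).minimalPrimes.Finite :=
    (I (⊤ : Subgroup (Pts k A))).finite_minimalPrimes_of_isNoetherianRing
  choose! x hx using fun Q (hQ : Q ∈ (I (⊤ : Subgroup (Pts k A))).minimalPrimes) =>
    exists_point_only hQ
  let Φ' : Subgroup (Pts k A) := Φ ⊔ Subgroup.closure (↑(hfin.toFinset.image x) : Set (Pts k A))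
  have hfg : Φ'.FG := hΦ.sup ⟨hfin.toFinset.image x, rfl⟩
  refine ⟨Φ', hfg, fun a ha => ?_⟩
  have ha' : a ∈ I Φ' := mem_I.2 ha
  have hPΦ' : P0 Φ' = P0 (⊤ : Subgroup (Pts k A)) := (hmax Φ' le_sup_left hfg).trans hP
  have key : ∀ Q ∈ (I (⊤ : Subgroup (Pts k A))).minimalPrimes, I Φ' ≤ Q := by
    intro Q hQ
    have hxQ : x Q ∈ Φ' := le_sup_right (a := Φ) (Subgroup.subset_closure
      (Finset.mem_coe.2 (Finset.mem_image_of_mem x (hfin.mem_toFinset.2 hQ))))
    have hmin : (P0 (⊤ : Subgroup (Pts k A))).comap (R (x Q)) = Q := by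
      refine (hx Q hQ).2.2 _ (minimal_comap _ (R_surjective _) (comap_R_I trivial) (P0_mem ⊤)) ?_
      refine (Ideal.comap_mono (P0_le_one ⊤)).trans ?_
      rw [comap_R_ker, one_mul]
    rw [← hmin, ← hPΦ', ← comap_R_I hxQ]
    exact Ideal.comap_mono (P0_mem Φ').1.2
  have : a ∈ sInf (I (⊤ : Subgroup (Pts k A))).minimalPrimes :=
    Submodule.mem_sInf.2 fun Q hQ => key Q hQ ha'
  rw [Ideal.sInf_minimalPrimes, (isRadical_I _).radical, hbot] at this
  exact (Ideal.mem_bot).1 this

end Groth.L06.FGDense
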