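import Groth.Agent.L06.FGDense.Det
import Groth.Agent.L06.FGDense.Const
import Mathlib.LinearAlgebra.Matrix.Charpoly.Eigs
import Mathlib.FieldTheory.IsAlgClosed.Spectrum
import Mathlib.RingTheory.IntegralClosure.IsIntegral.Basic
import Mathlib.Algebra.Polynomial.Lifts
import Mathlib.LinearAlgebra.Matrix.Charpoly.Coeff
import Mathlib.LinearAlgebra.Matrix.ToLin

/-!
# Points of the neutral component stabilise
-/

set_option autoImplicit false
set_option linter.style.haveILetI false
set_option linter.unusedSectionVars false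
set_option linter.unusedVariables false
set_option linter.unusedSimpArgs false
set_option backward.isDefEq.respectTransparency false

universe u v w

open WithConv

noncomputable section

namespace Groth.L06.FGDense

variable {k : Type u} [Field k] [IsAlgClosed k] [CharZero k] {A : Type v} [CommRing A]
  [HopfAlgebra k A]

/-- The characteristic polynomial of a matrix killed by a monic integral polynomial is integral. -/
theorem isIntegral_charpoly_coeff {K : Type u} [Field K] [IsAlgClosed K] {n : Type w} [Fintype n]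
    [DecidableEq n] (M : Matrix n n K) {p : Polynomial ℤ} (hp : p.Monic)
    (hM : Polynomial.aeval M p = 0) (i : ℕ) : IsIntegral ℤ (M.charpoly.coeff i) := by
  have hroots : ∀ r ∈ M.charpoly.roots, r ∈ integralClosure ℤ K := by
    intro r hr
    rw [Polynomial.mem_roots (Matrix.charpoly_monic M).ne_zero] at hr
    have h1 : r ∈ spectrum K M := Matrix.mem_spectrum_of_isRoot_charpoly hr
    have h2 := spectrum.subset_polynomial_aeval M (p.map (algebraMap ℤ K)) ⟨r, h1, rfl⟩
    rw [Polynomial.aeval_map_algebraMap, hM, spectrum.mem_iff, sub_zero] at h2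
    refine ⟨p, hp, ?_⟩
    by_contra hne
    refine h2 ((IsUnit.mk0 _ ?_).map (algebraMap K (Matrix n n K)))
    simpa [Polynomial.eval_map] using hne
  have hlift : M.charpoly ∈ Polynomial.lifts (algebraMap (integralClosure ℤ K) K) := by
    rw [(IsAlgClosed.splits M.charpoly).eq_prod_roots_of_monic (Matrix.charpoly_monic M)]
    refine multiset_prod_mem _ fun q hq => ?_
    obtain ⟨r, hr, rfl⟩ := Multiset.mem_map.mp hq
    exact ⟨Polynomial.X - Polynomial.C ⟨r, hroots r hr⟩, by simp⟩
  obtain ⟨⟨y, hy⟩, hye⟩ := (Polynomial.lifts_iff_coeff_lifts _).mp hlift i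
  exact hye ▸ hy

variable (k A) in
/-- Elements as functions on the points. -/
def ev : A →ₐ[k] (Pts k A → k) where
  toFun a g := g.ofConv a
  map_one' := funext fun g => map_one g.ofConv
  map_mul' a b := funext fun g => map_mul g.ofConv a b
  map_zero' := funext fun g => map_zero g.ofConv
  map_add' a b := funext fun g => map_add g.ofConv a b
  commutes' r := funext fun g => g.ofConv.commutes r

theorem mem_range_ev_translate (μ : A →ₗ[k] k) (u : A) :
    (fun g : Pts k A => μ (R g u)) ∈ (ev k A).range := by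
  refine ⟨TensorProduct.lid k A (μ.rTensor A (Coalgebra.comul (R := k) u)), funext fun g => ?_⟩
  show g.ofConv (TensorProduct.lid k A (μ.rTensor A (Coalgebra.comul (R := k) u))) =
    μ (Algebra.TensorProduct.rid k k A
      (Algebra.TensorProduct.map (AlgHom.id k A) g.ofConv (Coalgebra.comul (R := k) u)))
  induction Coalgebra.comul (R := k) u using TensorProduct.induction_on with
  | zero => simp
  | tmul a b => simp [mul_comm]
  | add p q hp hq => simp only [map_add, hp, hq]

theorem mem_range_ev_translate_inv (μ : A →ₗ[k] k) (u : A) :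
    (fun g : Pts k A => μ (R g⁻¹ u)) ∈ (ev k A).range := by
  obtain ⟨a, ha⟩ := mem_range_ev_translate μ u
  refine ⟨HopfAlgebra.antipodeAlgHom k A a, funext fun g => ?_⟩
  show g.ofConv (HopfAlgebra.antipodeAlgHom k A a) = _
  rw [antipode_spec]
  exact congrFun ha g⁻¹

variable (U : Submodule k A) (hU : ∀ g : Pts k A, ∀ u ∈ U, R g u ∈ U)

/-- The representation on a stable subspace. -/
def ρ : Pts k A →* Module.End k U where
  toFun g := (R g).toLinearMap.restrict (hU g)
  map_one' := LinearMap.ext fun u => Subtype.ext (R_one (k := k) (u : A))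
  map_mul' g h := LinearMap.ext fun u => Subtype.ext (R_mul g h (u : A))

theorem ρ_coe (g : Pts k A) (u : U) : ((ρ U hU g u : U) : A) = R g (u : A) := rfl

/-- Coefficients of a representation are regular. -/
theorem mem_range_ev_coeff (θ : U →ₗ[k] k) (u : U) :
    (fun g : Pts k A => θ (ρ U hU g u)) ∈ (ev k A).range ∧
      (fun g : Pts k A => θ (ρ U hU g⁻¹ u)) ∈ (ev k A).range := by
  obtain ⟨μ, hμ⟩ := LinearMap.exists_extend θ
  have e : ∀ g : Pts k A, θ (ρ U hU g u) = μ (R g (u : A)) := fun g =>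
    (LinearMap.congr_fun hμ (ρ U hU g u)).symm
  exact ⟨(funext e : (fun g : Pts k A => θ (ρ U hU g u)) = _) ▸ mem_range_ev_translate μ u,
    (funext (fun g : Pts k A => e g⁻¹) : (fun g : Pts k A => θ (ρ U hU g⁻¹ u)) = _) ▸
      mem_range_ev_translate_inv μ u⟩

/-- Coefficients of the conjugation representation are regular. -/
theorem mem_range_ev_conj [Module.Finite k U] (μ : Module.End k U →ₗ[k] k) (φ : Module.End k U) :
    (fun g : Pts k A => μ (ρ U hU g * φ * ρ U hU g⁻¹)) ∈ (ev k A).range := by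
  classical
  let b := Module.finBasis k U
  let lam := μ ∘ₗ (LinearMap.toMatrix b b).symm.toLinearMap
  have key : ∀ g : Pts k A, μ (ρ U hU g * φ * ρ U hU g⁻¹) =
      ∑ i, ∑ j, (∑ l, b.coord l (ρ U hU g⁻¹ (b j)) * b.coord i (ρ U hU g (φ (b l)))) *
        lam (Matrix.single i j 1) := by
    intro g
    set X := ρ U hU g * φ * ρ U hU g⁻¹ with hX
    have h1 : μ X = lam (LinearMap.toMatrix b b X) := by simp [lam]
    rw [h1]
    conv_lhs => rw [Matrix.matrix_eq_sum_single (LinearMap.toMatrix b b X)]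
    rw [map_sum]
    refine Finset.sum_congr rfl fun i _ => ?_
    rw [map_sum]
    refine Finset.sum_congr rfl fun j _ => ?_
    rw [show Matrix.single i j (LinearMap.toMatrix b b X i j) =
      (LinearMap.toMatrix b b X i j) • Matrix.single i j (1 : k) by
        rw [Matrix.smul_single, smul_eq_mul, mul_one], map_smul, smul_eq_mul]
    congr 1
    rw [LinearMap.toMatrix_apply, hX, Module.End.mul_apply, Module.End.mul_apply]
    conv_lhs => rw [← b.sum_repr (ρ U hU g⁻¹ (b j))]
    simp only [map_sum, map_smul, Module.Basis.coord_apply, Finset.sum_apply', Finsupp.smul_apply,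
      smul_eq_mul]
  have e : (fun g : Pts k A => μ (ρ U hU g * φ * ρ U hU g⁻¹)) =
      ∑ i, ∑ j, (∑ l, (fun g : Pts k A => b.coord l (ρ U hU g⁻¹ (b j))) *
        (fun g : Pts k A => b.coord i (ρ U hU g (φ (b l))))) *
        algebraMap k (Pts k A → k) (lam (Matrix.single i j 1)) := by
    funext g
    rw [key g]
    simp only [Finset.sum_apply, Pi.mul_apply, Pi.algebraMap_apply, Algebra.algebraMap_self,
      RingHom.id_apply]
  rw [e]
  exact Subalgebra.sum_mem _ fun i _ => Subalgebra.sum_mem _ fun j _ => Subalgebra.mul_mem _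
    (Subalgebra.sum_mem _ fun l _ => Subalgebra.mul_mem _ (mem_range_ev_coeff U hU _ _).2
      (mem_range_ev_coeff U hU _ _).1) (Subalgebra.algebraMap_mem _ _)

/-- The centraliser of a set of points. -/
def cen (H : Subgroup (Pts k A)) : Submodule k (Module.End k U) where
  carrier := {φ | ∀ h : H, Commute φ (ρ U hU h)}
  add_mem' ha hb h := (ha h).add_left (hb h)
  zero_mem' h := Commute.zero_left _
  smul_mem' c φ hφ h := (hφ h).smul_left c

theorem conj_mem_cen {H : Subgroup (Pts k A)} (hH : ∀ g h : Pts k A, h ∈ H → g⁻¹ * h * g ∈ H)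
    (g : Pts k A) {φ : Module.End k U} (hφ : φ ∈ cen U hU H) :
    ρ U hU g * φ * ρ U hU g⁻¹ ∈ cen U hU H := by
  intro h
  have h1 : Commute φ (ρ U hU (g⁻¹ * h * g)) := hφ ⟨_, hH g h h.2⟩
  have e1 : ρ U hU g⁻¹ * ρ U hU h = ρ U hU (g⁻¹ * h * g) * ρ U hU g⁻¹ := by
    rw [← map_mul, ← map_mul, mul_inv_cancel_right]
  have e2 : ρ U hU g * ρ U hU (g⁻¹ * h * g) = ρ U hU h * ρ U hU g := by
    rw [← map_mul, ← map_mul, ← mul_assoc, ← mul_assoc, mul_inv_cancel, one_mul]
  show _ = _
  rw [mul_assoc, e1, ← mul_assoc, mul_assoc (ρ U hU g) φ, h1.eq, ← mul_assoc, e2]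
  simp only [mul_assoc]

/-- The conjugation representation on the centraliser. -/
def σ (H : Subgroup (Pts k A)) (hH : ∀ g h : Pts k A, h ∈ H → g⁻¹ * h * g ∈ H) :
    Pts k A →* Module.End k (cen U hU H) where
  toFun g :=
    { toFun := fun φ => ⟨ρ U hU g * φ * ρ U hU g⁻¹, conj_mem_cen U hU hH g φ.2⟩
      map_add' := fun a b => Subtype.ext (by simp [mul_add, add_mul])
      map_smul' := fun c a => Subtype.ext (by simp [mul_smul_comm, smul_mul_assoc]) }
  map_one' := LinearMap.ext fun φ => Subtype.ext (by simp)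
  map_mul' g h := LinearMap.ext fun φ => Subtype.ext (by
    show ρ U hU (g * h) * φ * ρ U hU (g * h)⁻¹ =
      ρ U hU g * (ρ U hU h * φ * ρ U hU h⁻¹) * ρ U hU g⁻¹
    rw [mul_inv_rev, map_mul, map_mul]
    simp only [mul_assoc])

theorem σ_coe (H : Subgroup (Pts k A)) (hH : ∀ g h : Pts k A, h ∈ H → g⁻¹ * h * g ∈ H)
    (g : Pts k A) (φ : cen U hU H) :
    ((σ U hU H hH g φ : cen U hU H) : Module.End k U) = ρ U hU g * φ * ρ U hU g⁻¹ := rfl

theorem σ_eq_one {H : Subgroup (Pts k A)} (hH : ∀ g h : Pts k A, h ∈ H → g⁻¹ * h * g ∈ H)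
    {h : Pts k A} (hh : h ∈ H) : σ U hU H hH h = 1 := by
  refine LinearMap.ext fun φ => Subtype.ext ?_
  rw [σ_coe, ← (φ.2 ⟨h, hh⟩ : Commute _ _).symm.eq.symm]
  show φ.1 * ρ U hU h * ρ U hU h⁻¹ = φ.1
  rw [mul_assoc, ← map_mul, mul_inv_cancel, map_one, mul_one]

/-- A representation with regular coefficients and finite image on an irreducible set of points
containing the identity is trivial on it. -/
theorem rep_eq_one [Algebra.FiniteType k A] {Q : Ideal A} [Q.IsPrime]
    (hQ1 : Q ≤ RingHom.ker (1 : Pts k A).ofConv) {M : Type w} [AddCommMonoid M] [Module k M]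
    [Module.Finite k M] (τ : Pts k A →* Module.End k M)
    (hreg : ∀ (θ : M →ₗ[k] k) (x : M), (fun g : Pts k A => θ (τ g x)) ∈ (ev k A).range)
    (hfin : ∀ g : Pts k A, ∃ N : ℕ, 0 < N ∧ τ g ^ N = 1)
    {g : Pts k A} (hg : Q ≤ RingHom.ker g.ofConv) : τ g = 1 := by
  classical
  letI : AddCommGroup M := Module.addCommMonoidToAddCommGroup k
  let n := ULift.{u} (Fin (Module.finrank k M))
  let b : Module.Basis n k M := (Module.finBasis k M).reindex Equiv.ulift.symm
  choose a ha using fun i j : n => hreg (b.coord i) (b j)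
  let S : Matrix n n A := Matrix.of a
  let m : Pts k A → Matrix n n k := fun x => LinearMap.toMatrix b b (τ x)
  have hSm : ∀ x : Pts k A, S.map x.ofConv = m x := fun x => by
    ext i j
    show x.ofConv (a i j) = LinearMap.toMatrix b b (τ x) i j
    rw [LinearMap.toMatrix_apply]
    exact congrFun (ha i j) x
  have hcoeff : ∀ (x : Pts k A) t, x.ofConv (S.charpoly.coeff t) = (m x).charpoly.coeff t := by
    intro x t
    rw [← hSm x, show S.map x.ofConv = S.map x.ofConv.toRingHom from rfl, Matrix.charpoly_map,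
      Polynomial.coeff_map]
    rfl
  have hint : ∀ (x : Pts k A) t, IsIntegral ℤ ((m x).charpoly.coeff t) := by
    intro x t
    obtain ⟨N, hN, hN1⟩ := hfin x
    refine isIntegral_charpoly_coeff (m x)
      (p := (Polynomial.X : Polynomial ℤ) ^ N - 1) (by simpa using Polynomial.monic_X_pow_sub_C (1 : ℤ) hN.ne') ?_ t
    rw [map_sub, map_pow, Polynomial.aeval_X, map_one]
    show LinearMap.toMatrixAlgEquiv b (τ x) ^ N - 1 = 0
    rw [← map_pow, hN1, map_one, sub_self]
  let mk : A →ₐ[k] A ⧸ Q := Ideal.Quotient.mkₐ k Q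
  haveI : Algebra.FiniteType k (A ⧸ Q) :=
    Algebra.FiniteType.of_surjective mk Ideal.Quotient.mk_surjective
  have hconst : ∀ t, ∀ x : Pts k A, Q ≤ RingHom.ker x.ofConv →
      x.ofConv (S.charpoly.coeff t) = (1 : Pts k A).ofConv (S.charpoly.coeff t) := by
    intro t
    obtain ⟨c, hc⟩ := exists_const (k := k) (mk (S.charpoly.coeff t)) fun χ => by
      have := hint (toConv (χ.comp mk)) t
      rw [← hcoeff] at this
      exact this
    intro x hx
    have key : ∀ y : Pts k A, Q ≤ RingHom.ker y.ofConv → y.ofConv (S.charpoly.coeff t) = c := by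
      intro y hy
      have hmem : S.charpoly.coeff t - algebraMap k A c ∈ Q := by
        rw [← Ideal.Quotient.eq_zero_iff_mem, map_sub, sub_eq_zero]
        exact hc.symm
      have := RingHom.mem_ker.1 (hy hmem)
      rw [map_sub, AlgHom.commutes, sub_eq_zero] at this
      exact this
    rw [key x hx, key 1 hQ1]
  have hchar : (m g).charpoly = (1 : Matrix n n k).charpoly := by
    refine Polynomial.ext fun t => ?_
    rw [← hcoeff, hconst t g hg, hcoeff]
    congr 2
    show LinearMap.toMatrix b b (τ 1) = 1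
    rw [map_one]
    exact LinearMap.toMatrix_one b
  have hnil : IsNilpotent (m g - 1) := by
    refine ⟨Fintype.card n, ?_⟩
    have h := Matrix.aeval_self_charpoly (m g)
    rw [hchar, Matrix.charpoly_one, map_pow, map_sub, Polynomial.aeval_X, map_one] at h
    exact h
  obtain ⟨N, hN, hN1⟩ := hfin g
  have hunit : IsUnit (N : Matrix n n k) := by
    have := (IsUnit.mk0 (N : k) (Nat.cast_ne_zero.2 hN.ne')).map (algebraMap k (Matrix n n k))
    rwa [map_natCast] at this
  have hm : m g = 1 := eq_one_of_unipotent hunit hnil (by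
    show LinearMap.toMatrixAlgEquiv b (τ g) ^ N = 1
    rw [← map_pow, hN1, map_one])
  exact (LinearMap.toMatrixAlgEquiv b).injective (hm.trans (map_one _).symm)

theorem exists_extend' {K : Type u} [Field K] {V : Type w} [AddCommMonoid V] [Module K V]
    (W : Submodule K V) (θ : W →ₗ[K] K) : ∃ μ : V →ₗ[K] K, ∀ x : W, μ x = θ x := by
  letI : AddCommGroup V := Module.addCommMonoidToAddCommGroup K
  obtain ⟨μ, hμ⟩ := LinearMap.exists_extend θ
  exact ⟨μ, fun x => LinearMap.congr_fun hμ x⟩

/-- The points of the neutral component lie in a stable component. -/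
theorem le_ker_of_stable [Algebra.FiniteType k A] [IsNoetherianRing A] {P Q : Ideal A} [Q.IsPrime]
    (hP : Stable (k := k) P) (hQ1 : Q ≤ RingHom.ker (1 : Pts k A).ofConv)
    {g : Pts k A} (hg : Q ≤ RingHom.ker g.ofConv) : P ≤ RingHom.ker g.ofConv := by
  obtain ⟨U, hfin, χ0, hU, hspan, hcrit⟩ := exists_datum hP
  haveI := hfin
  have hσ : σ U hU _ hP.conj_mem g = 1 := by
    refine rep_eq_one (M := ↥(cen U hU (stab (k := k) P))) hQ1 (σ U hU _ hP.conj_mem) (fun θ φ => ?_) (fun x => ?_) hg
    · obtain ⟨μ, hμ⟩ := exists_extend' _ θ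
      have e : (fun x : Pts k A => θ (σ U hU _ hP.conj_mem x φ)) =
          fun x : Pts k A => μ (ρ U hU x * φ.1 * ρ U hU x⁻¹) :=
        funext fun x => (hμ (σ U hU _ hP.conj_mem x φ)).symm
      rw [e]
      exact mem_range_ev_conj U hU μ φ.1
    · obtain ⟨N, hN, hN1⟩ := hP.pow_mem x
      exact ⟨N, hN, by rw [← map_pow]; exact σ_eq_one U hU hP.conj_mem hN1⟩
  have hcomm : ∀ φ : Module.End k U, (∀ h : stab (k := k) P, Commute φ (ρ U hU h)) →
      Commute (ρ U hU g) φ := by
    intro φ hφ
    have h1 : ρ U hU g * φ * ρ U hU g⁻¹ = φ :=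
      (σ_coe U hU _ hP.conj_mem g ⟨φ, hφ⟩).symm.trans (by rw [hσ]; rfl)
    show ρ U hU g * φ = φ * ρ U hU g
    conv_rhs => rw [← h1]
    rw [mul_assoc, ← map_mul, inv_mul_cancel, map_one, mul_one]
  have hspan' : Submodule.span k {e : U | ∀ h : stab (k := k) P, ∃ c : k, ρ U hU h e = c • e} = ⊤ := by
    refine Submodule.map_injective_of_injective U.injective_subtype ?_
    rw [Submodule.map_span, Submodule.map_subtype_top]
    refine le_antisymm (Submodule.span_le.2 (by rintro _ ⟨e, -, rfl⟩; exact e.2))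
      (hspan.trans (Submodule.span_mono ?_))
    rintro x ⟨hx, he⟩
    exact ⟨⟨x, hx⟩, fun h => (he h).imp fun c hc => Subtype.ext hc, rfl⟩
  obtain ⟨c, hc⟩ := scalar_of_commute (fun h : stab (k := k) P => ρ U hU h) hspan' χ0 (ρ U hU g) hcomm
  refine hcrit g ⟨c, fun u hu hχ => ?_⟩
  exact congrArg Subtype.val (hc ⟨u, hu⟩ fun h => Subtype.ext (hχ h))

end Groth.L06.FGDense
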