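import Groth.Agent.L06.FGDense.Main
import Mathlib.AlgebraicGeometry.Morphisms.FiniteType

/-!
# Finitely generated dense subgroups of affine group schemes
-/

set_option autoImplicit false
set_option linter.style.haveILetI false

universe u

open CategoryTheory CategoryTheory.Limits MonoidalCategory CartesianMonoidalCategory MonObj GrpObj
open AlgebraicGeometry WithConv

set_option backward.isDefEq.respectTransparency.types false

noncomputable section

namespace Groth.L06.FGDense

open Groth.L25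

variable {k : Type u} [Field k]

/-- The terminal object as a spectrum. -/
def unitIso :
    (Spec (CommRingCat.of k)).asOver (Spec (CommRingCat.of k)) ≅ 𝟙_ (Over (Spec (CommRingCat.of k))) :=
  Over.isoMk (Iso.refl _) (by
    show 𝟙 _ ≫ 𝟙 _ = Spec.map (CommRingCat.ofHom (algebraMap k k))
    rw [Category.id_comp]
    exact (Spec.map_id _).symm)

variable {A : Type u} [CommRing A] [HopfAlgebra k A] {G : Over (Spec (CommRingCat.of k))} [GrpObj G]

/-- Rational points of a group isomorphic to `Spec A` are characters of `A`. -/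
def ptsEquiv (e₀ : Grp.mk G ≅ Grp.mk (Bridge.P k A)) :
    (𝟙_ (Over (Spec (CommRingCat.of k))) ⟶ G) ≃* WithConv (A →ₐ[k] k) :=
  let e₁ : G ≅ Bridge.P k A := (Grp.forget _).mapIso e₀
  haveI : IsMonHom e₁.hom := e₀.hom.hom.isMonHom_hom
  haveI : IsMonHom e₁.inv := e₀.inv.hom.isMonHom_hom
  let a : (𝟙_ (Over (Spec (CommRingCat.of k))) ⟶ G) ≃*
      ((Spec (CommRingCat.of k)).asOver (Spec (CommRingCat.of k)) ⟶ Bridge.P k A) :=
    { toFun := fun x => unitIso.hom ≫ x ≫ e₁.hom
      invFun := fun y => unitIso.inv ≫ y ≫ e₁.inv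
      left_inv := fun x => by simp
      right_inv := fun y => by simp
      map_mul' := fun x y => by rw [MonObj.mul_comp, MonObj.comp_mul] }
  a.trans (Spec.mapMulEquiv (R := k) (S := A) (T := k)).symm

/-- Scheme form of the existence of finitely generated dense subgroups. -/
theorem exists_fg_dense_scheme [IsAlgClosed k] [CharZero k] [LocallyOfFiniteType G.hom]
    (e₀ : Grp.mk G ≅ Grp.mk (Bridge.P k A)) :
    ∃ Φ : Subgroup (𝟙_ (Over (Spec (CommRingCat.of k))) ⟶ G), Φ.FG ∧
      Dense {x : ↥G.left | ∃ g ∈ Φ, g.left.base (IsLocalRing.closedPoint k) = x} := by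
  have hiso : IsIso e₀.inv.hom.hom :=
    ⟨e₀.hom.hom.hom, congr($(e₀.inv_hom_id).hom.hom), congr($(e₀.hom_inv_id).hom.hom)⟩
  have : IsIso e₀.inv.hom.hom.left := inferInstanceAs (IsIso ((Over.forget _).map e₀.inv.hom.hom))
  haveI hft : Algebra.FiniteType k A := by
    haveI : LocallyOfFiniteType (Bridge.P k A).hom := by
      rw [← Over.w e₀.inv.hom.hom]
      exact inferInstanceAs (LocallyOfFiniteType (e₀.inv.hom.hom.left ≫ G.hom))
    have h : LocallyOfFiniteType (Bridge.P k A).hom := inferInstance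
    change LocallyOfFiniteType (Spec.map (CommRingCat.ofHom (algebraMap k A))) at h
    rw [HasRingHomProperty.Spec_iff (P := @LocallyOfFiniteType), CommRingCat.hom_ofHom,
      RingHom.finiteType_algebraMap] at h
    exact h
  obtain ⟨Φ, hΦ, hden⟩ := exists_fg_dense (k := k) (A := A)
  refine ⟨Φ.map (ptsEquiv e₀).symm.toMonoidHom,
    (Subgroup.fg_iff_submonoid_fg _).2 (((Subgroup.fg_iff_submonoid_fg _).1 hΦ).map _), ?_⟩
  let j : Spec (CommRingCat.of A) ⟶ G.left := e₀.inv.hom.hom.left
  have : IsIso j := this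
  let S : Set (PrimeSpectrum A) :=
    {q | ∃ x ∈ Φ, PrimeSpectrum.comap x.ofConv.toRingHom (IsLocalRing.closedPoint k) = q}
  have hS : Dense S := by
    rw [dense_iff_inter_open]
    rintro U hU ⟨q, hq⟩
    obtain ⟨_, ⟨f, rfl⟩, hqf, hfU⟩ :=
      PrimeSpectrum.isTopologicalBasis_basic_opens.exists_subset_of_mem_open hq hU
    have hf : f ≠ 0 := fun h0 => (PrimeSpectrum.mem_basicOpen f q).1 hqf (h0 ▸ q.asIdeal.zero_mem)
    obtain ⟨x, hx, hxf⟩ : ∃ x ∈ Φ, x.ofConv f ≠ 0 := by
      by_contra! h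
      exact hf (hden f h)
    refine ⟨_, hfU ?_, x, hx, rfl⟩
    show f ∉ (IsLocalRing.maximalIdeal k).comap x.ofConv.toRingHom
    rw [Ideal.mem_comap, IsLocalRing.maximalIdeal_eq_bot]
    exact hxf
  have hsurj : Function.Surjective j.base := (AlgebraicGeometry.Scheme.homeoOfIso (asIso j)).surjective
  refine (hsurj.denseRange.dense_image j.continuous hS).mono ?_
  rintro _ ⟨_, ⟨x, hx, rfl⟩, rfl⟩
  exact ⟨(ptsEquiv e₀).symm x, Subgroup.mem_map_of_mem _ hx, rfl⟩

end Groth.L06.FGDense
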